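import Mathlib
import Cfsg.Agent.Forms.OrthPerp
import Cfsg.Agent.S0762

/-!
# Standard bases of non-degenerate quadratic spaces over finite fields, any characteristic
-/

set_option autoImplicit false

namespace CfsgLib.StdBasis

open Module QuadraticMap CfsgLib.Forms

universe u v

variable {F : Type u} [Field F]

/-- Hyperbolic pairs `e i`, `f i` together with vectors `t j` orthogonal to all of them. -/
structure IsHypFamily {V : Type v} [AddCommGroup V] [Module F V] (Q : QuadraticForm F V) {k d : ℕ}
    (e f : Fin k → V) (t : Fin d → V) : Prop where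
  qe : ∀ i, Q (e i) = 0
  qf : ∀ i, Q (f i) = 0
  ef : ∀ i j, polar (⇑Q) (e i) (f j) = if i = j then 1 else 0
  ee : ∀ i j, polar (⇑Q) (e i) (e j) = 0
  ff : ∀ i j, polar (⇑Q) (f i) (f j) = 0
  te : ∀ i l, polar (⇑Q) (e i) (t l) = 0
  tf : ∀ i l, polar (⇑Q) (f i) (t l) = 0
  tail : ∀ c : Fin d → F, Q (∑ l, c l • t l) = 0 → c = 0

variable {V : Type v} [AddCommGroup V] [Module F V]

theorem polar_sum_right (Q : QuadraticForm F V) {ι : Type*} (s : Finset ι) (x : V) (g : ι → V) :
    polar (⇑Q) x (∑ i ∈ s, g i) = ∑ i ∈ s, polar (⇑Q) x (g i) := by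
  simp only [← polarBilin_apply_apply, map_sum]

theorem IsHypFamily.li {Q : QuadraticForm F V} {k d : ℕ} {e f : Fin k → V} {t : Fin d → V}
    (h : IsHypFamily Q e f t) :
    LinearIndependent F (Sum.elim (Sum.elim e f) t) := by
  rw [Fintype.linearIndependent_iff]
  intro g hg
  simp only [Fintype.sum_sum_type, Sum.elim_inl, Sum.elim_inr] at hg
  have h1 : ∀ i, g (Sum.inl (Sum.inr i)) = 0 := by
    intro i
    have := congrArg (polar (⇑Q) (e i)) hg
    simpa [polar_add_right, polar_sum_right, polar_smul_right, h.ee, h.ef, h.te, polar_zero_right]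
      using this
  have h2 : ∀ i, g (Sum.inl (Sum.inl i)) = 0 := by
    intro i
    have := congrArg (polar (⇑Q) (f i)) hg
    have hfe : ∀ j, polar (⇑Q) (f i) (e j) = if j = i then 1 else 0 := fun j => by
      rw [polar_comm, h.ef]
    simpa [polar_add_right, polar_sum_right, polar_smul_right, h.ff, hfe, h.tf, polar_zero_right]
      using this
  have h3 : (fun l => g (Sum.inr l)) = 0 := by
    refine h.tail _ ?_
    simp only [h1, h2, zero_smul, Finset.sum_const_zero, zero_add] at hg
    rw [hg, map_zero]
  rintro ((i | i) | l)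
  · exact h2 i
  · exact h1 i
  · exact congrFun h3 l

theorem exists_isotropic [Finite F] [FiniteDimensional F V] (Q : QuadraticForm F V)
    (hsep : ∀ x, (∀ y, polar (⇑Q) x y = 0) → x = 0) (hd : 3 ≤ finrank F V) :
    ∃ z, z ≠ 0 ∧ Q z = 0 := by
  by_cases h2 : (2 : F) = 0
  · haveI : CharP F 2 := CharTwo.of_one_ne_zero_of_two_eq_zero one_ne_zero h2
    exact Cfsg.Agent.S0762.result Q hd
  · exact exists_quad_isotropic h2 Q hsep hd

theorem exists_value_one [Finite F] [FiniteDimensional F V] (Q : QuadraticForm F V)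
    (hsep : ∀ x, (∀ y, polar (⇑Q) x y = 0) → x = 0) (hd : 2 ≤ finrank F V) : ∃ z, Q z = 1 := by
  by_cases h2 : (2 : F) = 0
  · haveI : CharP F 2 := CharTwo.of_one_ne_zero_of_two_eq_zero one_ne_zero h2
    obtain ⟨v, hv⟩ : ∃ v, Q v ≠ 0 := by
      by_contra hc
      push Not at hc
      haveI : Nontrivial V := Module.nontrivial_of_finrank_pos (R := F) (by omega)
      obtain ⟨x, hx⟩ := exists_ne (0 : V)
      exact hx (hsep x fun y => by simp [polar, hc])
    obtain ⟨a, ha⟩ := FiniteField.isSquare_of_char_two (ringChar.eq F 2) (Q v)⁻¹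
    exact ⟨a • v, by rw [QuadraticMap.map_smul, smul_eq_mul, ← ha, inv_mul_cancel₀ hv]⟩
  · exact exists_quad_value h2 Q hsep hd 1

/-- The decomposition, by induction on the dimension; the last vectors form a normalised anisotropic
line or plane. -/
theorem exists_decomp_aux [Finite F] : ∀ (n : ℕ) (V : Type v) [AddCommGroup V] [Module F V]
    [FiniteDimensional F V] (Q : QuadraticForm F V),
    (∀ x, (∀ y, polar (⇑Q) x y = 0) → x = 0) → finrank F V = n →
    ∃ (k d : ℕ) (e f : Fin k → V) (t : Fin d → V), n = 2 * k + d ∧ IsHypFamily Q e f t ∧ d ≤ 2 ∧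
      (∀ h : d = 2, Q (t ⟨0, by omega⟩) = 1 ∧ polar (⇑Q) (t ⟨0, by omega⟩) (t ⟨1, by omega⟩) = 1) := by
  intro n
  induction n using Nat.strong_induction_on with
  | _ n ih =>
  intro V _ _ _ Q hsep hn
  by_cases hiso : ∃ z, z ≠ 0 ∧ Q z = 0
  · obtain ⟨a, ha0, ha⟩ := hiso
    obtain ⟨b, hb, hab⟩ := exists_hyperbolic_partner Q hsep ha0 ha
    let W := perpSub Q ![a, b]
    have hba : polar (⇑Q) b a = 1 := by rw [polar_comm, hab]
    have haa : polar (⇑Q) a a = 0 := by rw [polar_self, ha]; simp
    have hbb : polar (⇑Q) b b = 0 := by rw [polar_self, hb]; simp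
    have hG : (Matrix.of fun i j => polar (⇑Q) (![a, b] i) (![a, b] j)).det ≠ 0 := by
      simp [Matrix.det_fin_two, hab, hba, haa, hbb]
    have hsurj : LinearMap.range (LinearMap.pi fun i => polarBilin Q (![a, b] i)) = ⊤ := by
      rw [LinearMap.range_eq_top]
      intro c
      refine ⟨c 1 • a + c 0 • b, funext fun i => ?_⟩
      fin_cases i <;>
        simp [polar_add_right, polar_smul_right, hab, hba, haa, hbb]
    have hWdim : finrank F W + 2 = n := by
      have h := LinearMap.finrank_range_add_finrank_ker (LinearMap.pi fun i => polarBilin Q (![a, b] i))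
      rw [hsurj, finrank_top, finrank_fin_fun, hn] at h
      rw [add_comm] at h
      exact h
    obtain ⟨k, d, e, f, t, hkd, hfam, hd2, hnorm⟩ := ih (finrank F W) (by omega) W
      (Q.comp W.subtype) (sep_perpSub Q hsep _ hG) rfl
    have hW : ∀ (x : W), polar (⇑Q) a (x : V) = 0 ∧ polar (⇑Q) b (x : V) = 0 := fun x =>
      ⟨mem_perpSub.1 x.2 0, mem_perpSub.1 x.2 1⟩
    have hp : ∀ x y : W, polar (⇑(Q.comp W.subtype)) x y = polar (⇑Q) (x : V) (y : V) := fun x y => by
      simp [polar]
    refine ⟨k + 1, d, Fin.cons a fun i => (e i : V), Fin.cons b fun i => (f i : V),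
      fun l => (t l : V), by omega, ⟨?_, ?_, ?_, ?_, ?_, ?_, ?_, ?_⟩, hd2, fun h => ?_⟩
    · exact Fin.cases (by simpa using ha) fun i => by simpa using hfam.qe i
    · exact Fin.cases (by simpa using hb) fun i => by simpa using hfam.qf i
    · refine Fin.cases (Fin.cases (by simpa using hab) fun j => ?_) fun i => Fin.cases ?_ fun j => ?_
      · simpa [(Fin.succ_ne_zero j).symm] using (hW (f j)).1
      · rw [polar_comm]; simpa [Fin.succ_ne_zero i] using (hW (e i)).2
      · simpa [← hp] using hfam.ef i j
    · refine Fin.cases (Fin.cases (by simpa using haa) fun j => ?_) fun i => Fin.cases ?_ fun j => ?_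
      · simpa using (hW (e j)).1
      · rw [polar_comm]; simpa using (hW (e i)).1
      · simpa [← hp] using hfam.ee i j
    · refine Fin.cases (Fin.cases (by simpa using hbb) fun j => ?_) fun i => Fin.cases ?_ fun j => ?_
      · simpa using (hW (f j)).2
      · rw [polar_comm]; simpa using (hW (f i)).2
      · simpa [← hp] using hfam.ff i j
    · exact Fin.cases (fun l => by simpa using (hW (t l)).1) fun i l => by
        simpa [← hp] using hfam.te i l
    · exact Fin.cases (fun l => by simpa using (hW (t l)).2) fun i l => by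
        simpa [← hp] using hfam.tf i l
    · intro c hc
      refine hfam.tail c ?_
      rw [QuadraticMap.comp_apply, Submodule.subtype_apply, Submodule.coe_sum]
      simpa using hc
    · obtain ⟨h1, h2⟩ := hnorm h
      exact ⟨by simpa using h1, by rw [← hp]; exact h2⟩
  · push Not at hiso
    have hn2 : n ≤ 2 := by
      by_contra hc
      obtain ⟨z, hz, hz0⟩ := exists_isotropic Q hsep (by omega)
      exact hiso z hz hz0
    rcases Nat.lt_or_ge n 2 with hn1 | hn2'
    · let b := finBasisOfFinrankEq F V hn
      refine ⟨0, n, Fin.elim0, Fin.elim0, fun l => b l, by omega,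
        ⟨finZeroElim, finZeroElim, finZeroElim, finZeroElim, finZeroElim, finZeroElim, finZeroElim,
          fun c hc => ?_⟩, hn2, fun h => absurd h (by omega)⟩
      have h0 : ∑ l, c l • b l = 0 := by
        by_contra h0
        exact hiso _ h0 hc
      exact funext (Fintype.linearIndependent_iff.1 b.linearIndependent c h0)
    · obtain ⟨x, hx⟩ := exists_value_one Q hsep (by omega)
      have hx0 : x ≠ 0 := fun h => by rw [h, map_zero] at hx; exact zero_ne_one hx
      obtain ⟨z, hz⟩ : ∃ z, LinearIndependent F ![x, z] := by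
        obtain ⟨z, hz⟩ : ∃ z, z ∉ F ∙ x := by
          by_contra hc
          push Not at hc
          have : finrank F (F ∙ x) = finrank F V := by
            rw [Submodule.eq_top_iff'.2 hc, finrank_top]
          rw [finrank_span_singleton hx0] at this
          omega
        exact ⟨z, (LinearIndependent.pair_iff' hx0).2 fun s hs =>
          hz (Submodule.mem_span_singleton.2 ⟨s, hs⟩)⟩
      let c := polar (⇑Q) x z
      obtain ⟨α, β, hα, hαβ⟩ : ∃ α β : F, α ≠ 0 ∧ α * c + β * 2 = 1 := by
        by_cases hc : c = 0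
        · have h2 : (2 : F) ≠ 0 := by
            intro h2
            refine hx0 (hsep x fun y => ?_)
            have htop : Submodule.span F (Set.range ![x, z]) = ⊤ :=
              hz.span_eq_top_of_card_eq_finrank (by simp; omega)
            have hy : y ∈ Submodule.span F (Set.range ![x, z]) := htop ▸ Submodule.mem_top
            obtain ⟨g, rfl⟩ := (Submodule.mem_span_range_iff_exists_fun F).1 hy
            rw [Fin.sum_univ_two]
            simp [polar_add_right, polar_smul_right, polar_self, h2, hx, show polar (⇑Q) x z = 0 from hc]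
          exact ⟨1, 2⁻¹, one_ne_zero, by rw [hc, mul_zero, zero_add, inv_mul_cancel₀ h2]⟩
        · exact ⟨c⁻¹, 0, inv_ne_zero hc, by rw [inv_mul_cancel₀ hc, zero_mul, add_zero]⟩
      let y := β • x + α • z
      have hxy : polar (⇑Q) x y = 1 := by
        simp only [y, polar_add_right, polar_smul_right, polar_self, hx, smul_eq_mul, nsmul_eq_mul,
          Nat.cast_ofNat, mul_one]
        linear_combination hαβ
      have hli : LinearIndependent F ![x, y] := by
        rw [LinearIndependent.pair_iff] at hz ⊢
        intro s s' h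
        obtain ⟨h1, h2⟩ := hz (s + s' * β) (s' * α) (by
          rw [← h]; simp only [y, smul_add, smul_smul, add_smul]; abel)
        have hs' : s' = 0 := (mul_eq_zero.1 h2).resolve_right hα
        exact ⟨by simpa [hs'] using h1, hs'⟩
      refine ⟨0, 2, Fin.elim0, Fin.elim0, ![x, y], by omega,
        ⟨finZeroElim, finZeroElim, finZeroElim, finZeroElim, finZeroElim, finZeroElim, finZeroElim,
          fun g hg => ?_⟩, le_rfl, fun _ => ⟨hx, hxy⟩⟩
      have h0 : ∑ l, g l • ![x, y] l = 0 := by
        by_contra h0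
        exact hiso _ h0 hg
      exact funext (Fintype.linearIndependent_iff.1 hli g h0)

theorem exists_decomp [Finite F] [FiniteDimensional F V] (Q : QuadraticForm F V)
    (hQ : (polarBilin Q).Nondegenerate) {n : ℕ} (hn : finrank F V = n) :
    ∃ (k d : ℕ) (e f : Fin k → V) (t : Fin d → V), n = 2 * k + d ∧ IsHypFamily Q e f t ∧ d ≤ 2 ∧
      (∀ h : d = 2, Q (t ⟨0, by omega⟩) = 1 ∧ polar (⇑Q) (t ⟨0, by omega⟩) (t ⟨1, by omega⟩) = 1) :=
  exists_decomp_aux n V Q (fun x hx => hQ.1 x fun y => hx y) hn

end CfsgLib.StdBasis
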